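import Groth.Agent.H4Cech.Basic

/-!
# Functoriality of the extended Čech complex in the module
-/

set_option autoImplicit false
set_option linter.unusedSectionVars false

universe u

open CategoryTheory CategoryTheory.Limits CochainComplex

namespace Groth.Agent.H4Cech

variable {R : Type u} [CommRing R]

/-- Localisation of a linear map at the powers of `f`. -/
noncomputable abbrev lmap (f : R) {A B : Type u} [AddCommGroup A] [Module R A] [AddCommGroup B]
    [Module R B] (a : A →ₗ[R] B) :
    LocalizedModule (Submonoid.powers f) A →ₗ[R] LocalizedModule (Submonoid.powers f) B :=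
  IsLocalizedModule.map (Submonoid.powers f) (LocalizedModule.mkLinearMap _ A)
    (LocalizedModule.mkLinearMap _ B) a

theorem lmap_mk (f : R) {A B : Type u} [AddCommGroup A] [Module R A] [AddCommGroup B] [Module R B]
    (a : A →ₗ[R] B) (x : A) (s : Submonoid.powers f) :
    lmap f a (LocalizedModule.mk x s) = LocalizedModule.mk (a x) s :=
  IsLocalizedModule.map_LocalizedModules (Submonoid.powers f) a x s

theorem lmap_exact (f : R) {A B C : Type u} [AddCommGroup A] [Module R A] [AddCommGroup B]
    [Module R B] [AddCommGroup C] [Module R C] {a : A →ₗ[R] B} {b : B →ₗ[R] C}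
    (h : Function.Exact a b) : Function.Exact (lmap f a) (lmap f b) :=
  IsLocalizedModule.map_exact (Submonoid.powers f) (LocalizedModule.mkLinearMap _ A)
    (LocalizedModule.mkLinearMap _ B) (LocalizedModule.mkLinearMap _ C) a b h

section Components

variable (M : ModuleCat.{u} R) (f : R) (fs : List R)

/-- First component, at the list level. -/
noncomputable def fC (p : ℤ) :
    (DerCA.extCech M (f :: fs)).X p →ₗ[R] (DerCA.extCech M fs).X p :=
  fstc (DerCA.locCxUnit (Submonoid.powers f) (DerCA.extCech M fs)) p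

/-- Second component, at the list level. -/
noncomputable def sC (q p : ℤ) (h : q + 1 = p) :
    (DerCA.extCech M (f :: fs)).X p →ₗ[R]
      LocalizedModule (Submonoid.powers f) ((DerCA.extCech M fs).X q) :=
  sndc (DerCA.locCxUnit (Submonoid.powers f) (DerCA.extCech M fs)) q p h

theorem C_ext {q p : ℤ} (h : q + 1 = p) {x y : (DerCA.extCech M (f :: fs)).X p}
    (h₁ : fC M f fs p x = fC M f fs p y) (h₂ : sC M f fs q p h x = sC M f fs q p h y) : x = y :=
  cocone_ext (DerCA.locCxUnit (Submonoid.powers f) (DerCA.extCech M fs)) h h₁ h₂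

theorem exists_C (q p : ℤ) (h : q + 1 = p) (a : (DerCA.extCech M fs).X p)
    (b : LocalizedModule (Submonoid.powers f) ((DerCA.extCech M fs).X q)) :
    ∃ x, fC M f fs p x = a ∧ sC M f fs q p h x = b :=
  exists_cocone (DerCA.locCxUnit (Submonoid.powers f) (DerCA.extCech M fs)) q p h a b

theorem fC_d (p p' : ℤ) (x : (DerCA.extCech M (f :: fs)).X p) :
    fC M f fs p' (((DerCA.extCech M (f :: fs)).d p p').hom x) =
      ((DerCA.extCech M fs).d p p').hom (fC M f fs p x) :=
  fstc_d (DerCA.locCxUnit (Submonoid.powers f) (DerCA.extCech M fs)) p p' x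

theorem sC_d {q p p' : ℤ} (h : q + 1 = p) (h' : p + 1 = p')
    (x : (DerCA.extCech M (f :: fs)).X p) :
    sC M f fs p p' h' (((DerCA.extCech M (f :: fs)).d p p').hom x) =
      -LocalizedModule.mk (fC M f fs p x) 1 -
        lmap f ((DerCA.extCech M fs).d q p).hom (sC M f fs q p h x) :=
  sndc_d (DerCA.locCxUnit (Submonoid.powers f) (DerCA.extCech M fs)) h h' x

theorem aug_cons (x : (DerCA.extCech M (f :: fs)).X 0) :
    aug M (f :: fs) x = aug M fs (fC M f fs 0 x) := rfl

end Components

variable {M N : ModuleCat.{u} R}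

/-- The degreewise map induced by a linear map of modules. -/
noncomputable def mapX (g : M ⟶ N) :
    ∀ (fs : List R) (p : ℤ), (DerCA.extCech M fs).X p →ₗ[R] (DerCA.extCech N fs).X p
  | [], p => (((HomologicalComplex.single (ModuleCat.{u} R) (ComplexShape.up ℤ) 0).map g).f p).hom
  | f :: fs, p =>
    (kl (DerCA.locCxUnit (Submonoid.powers f) (DerCA.extCech N fs)) (p - 1) p (by lia)).symm.toLinearMap ∘ₗ
      (mapX g fs p).prodMap (lmap f (mapX g fs (p - 1))) ∘ₗ
        (kl (DerCA.locCxUnit (Submonoid.powers f) (DerCA.extCech M fs)) (p - 1) p (by lia)).toLinearMap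

variable (g : M ⟶ N) (f : R) (fs : List R)

theorem mapX_fstc (p : ℤ) (x : (DerCA.extCech M (f :: fs)).X p) :
    fC N f fs p (mapX g (f :: fs) p x) = mapX g fs p (fC M f fs p x) :=
  congrArg Prod.fst ((kl (DerCA.locCxUnit (Submonoid.powers f) (DerCA.extCech N fs)) (p - 1) p
    (by lia)).apply_symm_apply _)

theorem mapX_sndc (q p : ℤ) (h : q + 1 = p) (x : (DerCA.extCech M (f :: fs)).X p) :
    sC N f fs q p h (mapX g (f :: fs) p x) = lmap f (mapX g fs q) (sC M f fs q p h x) := by
  obtain rfl : q = p - 1 := by lia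
  exact congrArg Prod.snd ((kl (DerCA.locCxUnit (Submonoid.powers f) (DerCA.extCech N fs)) (p - 1) p
    (by lia)).apply_symm_apply _)

theorem mapX_d : ∀ (fs : List R) (p p' : ℤ), p + 1 = p' → ∀ x : (DerCA.extCech M fs).X p,
    mapX g fs p' (((DerCA.extCech M fs).d p p').hom x) =
      ((DerCA.extCech N fs).d p p').hom (mapX g fs p x) := by
  intro fs
  induction fs with
  | nil =>
    intro p p' _ x
    exact (congrArg (fun e => e.hom x)
      (((HomologicalComplex.single (ModuleCat.{u} R) (ComplexShape.up ℤ) 0).map g).comm p p')).symm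
  | cons f fs ih =>
    intro p p' h x
    refine C_ext N f fs h ?_ ?_
    · rw [mapX_fstc, fC_d, fC_d, mapX_fstc, ih p p' h]
    · rw [mapX_sndc, sC_d M f fs (q := p - 1) (by lia) h, sC_d N f fs (q := p - 1) (by lia) h,
        mapX_fstc, mapX_sndc, map_sub, map_neg, lmap_mk]
      induction sC M f fs (p - 1) p (by lia) x using LocalizedModule.induction_on with
      | h a s => rw [lmap_mk, lmap_mk, lmap_mk, lmap_mk, ih (p - 1) p (by lia)]

theorem mapX_aug : ∀ (fs : List R) (x : (DerCA.extCech M fs).X 0),
    aug N fs (mapX g fs 0 x) = g.hom (aug M fs x) := by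
  intro fs
  induction fs with
  | nil =>
    intro x
    have h : ((HomologicalComplex.single (ModuleCat.{u} R) (ComplexShape.up ℤ) 0).map g).f 0 ≫
        (HomologicalComplex.singleObjXSelf (ComplexShape.up ℤ) 0 N).hom =
          (HomologicalComplex.singleObjXSelf (ComplexShape.up ℤ) 0 M).hom ≫ g := by
      simp [HomologicalComplex.single_map_f_self]
    exact congrArg (fun e => e.hom x) h
  | cons f fs ih =>
    intro x
    rw [aug_cons, mapX_fstc, ih, aug_cons]

theorem mapX_injective (hg : Function.Injective g.hom) :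
    ∀ (fs : List R) (p : ℤ), Function.Injective (mapX g fs p) := by
  intro fs
  induction fs with
  | nil =>
    intro p
    have : Mono g := (ModuleCat.mono_iff_injective g).2 hg
    by_cases hp : p = 0
    · subst hp
      refine (ModuleCat.mono_iff_injective
        (((HomologicalComplex.single (ModuleCat.{u} R) (ComplexShape.up ℤ) 0).map g).f 0)).1 ?_
      rw [HomologicalComplex.single_map_f_self]
      infer_instance
    · have := ModuleCat.isZero_iff_subsingleton.1
        (HomologicalComplex.isZero_single_obj_X (ComplexShape.up ℤ) 0 M p hp)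
      exact fun x y _ => @Subsingleton.elim _ this x y
  | cons f fs ih =>
    intro p x y hxy
    refine C_ext M f fs (q := p - 1) (by lia) (ih p ?_) ?_
    · rw [← mapX_fstc, ← mapX_fstc, hxy]
    · refine IsLocalizedModule.map_injective (Submonoid.powers f)
        (LocalizedModule.mkLinearMap (Submonoid.powers f) ((DerCA.extCech M fs).X (p - 1)))
        (LocalizedModule.mkLinearMap (Submonoid.powers f) ((DerCA.extCech N fs).X (p - 1)))
        (mapX g fs (p - 1)) (ih (p - 1)) ?_
      change lmap f _ _ = lmap f _ _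
      rw [← mapX_sndc, ← mapX_sndc, hxy]

theorem mapX_surjective (hg : Function.Surjective g.hom) :
    ∀ (fs : List R) (p : ℤ), Function.Surjective (mapX g fs p) := by
  intro fs
  induction fs with
  | nil =>
    intro p
    have : Epi g := (ModuleCat.epi_iff_surjective g).2 hg
    by_cases hp : p = 0
    · subst hp
      refine (ModuleCat.epi_iff_surjective
        (((HomologicalComplex.single (ModuleCat.{u} R) (ComplexShape.up ℤ) 0).map g).f 0)).1 ?_
      rw [HomologicalComplex.single_map_f_self]
      infer_instance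
    · have := ModuleCat.isZero_iff_subsingleton.1
        (HomologicalComplex.isZero_single_obj_X (ComplexShape.up ℤ) 0 N p hp)
      exact fun y => ⟨0, @Subsingleton.elim _ this _ _⟩
  | cons f fs ih =>
    intro p y
    obtain ⟨a, ha⟩ := ih p (fC N f fs p y)
    obtain ⟨b, hb⟩ : ∃ b, lmap f (mapX g fs (p - 1)) b = sC N f fs (p - 1) p (by lia) y :=
      IsLocalizedModule.map_surjective (Submonoid.powers f)
        (LocalizedModule.mkLinearMap (Submonoid.powers f) ((DerCA.extCech M fs).X (p - 1)))
        (LocalizedModule.mkLinearMap (Submonoid.powers f) ((DerCA.extCech N fs).X (p - 1)))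
        (mapX g fs (p - 1)) (ih (p - 1)) _
    obtain ⟨x, hx₁, hx₂⟩ := exists_C M f fs (p - 1) p (by lia) a b
    refine ⟨x, C_ext N f fs (q := p - 1) (by lia) ?_ ?_⟩
    · rw [mapX_fstc, hx₁, ha]
    · rw [mapX_sndc, hx₂, hb]

theorem mapX_exact {L : ModuleCat.{u} R} (e : L ⟶ M) (he : Function.Exact e.hom g.hom) :
    ∀ (fs : List R) (p : ℤ), Function.Exact (mapX e fs p) (mapX g fs p) := by
  intro fs
  induction fs with
  | nil =>
    intro p
    by_cases hp : p = 0
    · subst hp
      intro y
      have hbij := fun X : ModuleCat.{u} R =>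
        (HomologicalComplex.singleObjXSelf (ComplexShape.up ℤ) 0 X).toLinearEquiv.bijective
      constructor
      · intro hy
        obtain ⟨w, hw⟩ := (he (aug M [] y)).1 (by
          rw [← mapX_aug, hy, map_zero])
        obtain ⟨z, rfl⟩ := (hbij L).2 w
        exact ⟨z, (hbij M).1 ((mapX_aug e [] z).trans hw)⟩
      · rintro ⟨z, rfl⟩
        refine (aug_bijective N []).1 ((mapX_aug g [] _).trans ?_)
        rw [mapX_aug, he.apply_apply_eq_zero, map_zero]
    · intro y
      have hN := ModuleCat.isZero_iff_subsingleton.1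
        (HomologicalComplex.isZero_single_obj_X (ComplexShape.up ℤ) 0 N p hp)
      have hM := ModuleCat.isZero_iff_subsingleton.1
        (HomologicalComplex.isZero_single_obj_X (ComplexShape.up ℤ) 0 M p hp)
      exact iff_of_true (@Subsingleton.elim _ hN _ _) ⟨0, @Subsingleton.elim _ hM _ _⟩
  | cons f fs ih =>
    intro p y
    constructor
    · intro hy
      obtain ⟨a, ha⟩ := (ih p (fC M f fs p y)).1 (by rw [← mapX_fstc, hy, map_zero])
      obtain ⟨b, hb⟩ := (lmap_exact f (ih (p - 1)) (sC M f fs (p - 1) p (by lia) y)).1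
        (by rw [← mapX_sndc, hy, map_zero])
      obtain ⟨x, hx₁, hx₂⟩ := exists_C L f fs (p - 1) p (by lia) a b
      refine ⟨x, C_ext M f fs (q := p - 1) (by lia) ?_ ?_⟩
      · rw [mapX_fstc, hx₁, ha]
      · rw [mapX_sndc, hx₂, hb]
    · rintro ⟨x, rfl⟩
      refine C_ext N f fs (q := p - 1) (by lia) ?_ ?_
      · rw [mapX_fstc, mapX_fstc, (ih p).apply_apply_eq_zero, map_zero]
      · rw [mapX_sndc, mapX_sndc, (lmap_exact f (ih (p - 1))).apply_apply_eq_zero, map_zero]

end Groth.Agent.H4Cech
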