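import Groth.Agent.H4Cech.Basic
import Groth.Agent.H4LC.CohQ

/-!
# Cohomology of the extended Čech complex in degree zero
-/

set_option autoImplicit false
set_option linter.unusedSectionVars false

universe u

open CategoryTheory CategoryTheory.Limits

namespace Groth.Agent.H4Cech

variable {R : Type u} [CommRing R]

/-- Homology as a quotient of cocycles. -/
noncomputable def homologyEquiv (C : DRing.Cx R) (p : ℤ) :
    C.homology p ≃ₗ[R] H4LC.cohQ (C.d (p - 1) p).hom (C.d p (p + 1)).hom :=
  (C.homologyIsoSc' (p - 1) p (p + 1) (by simp) (by simp)).toLinearEquiv.trans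
    ((C.sc' (p - 1) p (p + 1)).moduleCatHomologyIso.toLinearEquiv.trans
      (Submodule.quotEquivOfEq _ _ (by
        ext y
        constructor
        · rintro ⟨w, hw⟩
          exact ⟨w, congrArg Subtype.val hw⟩
        · rintro ⟨w, hw⟩
          exact ⟨w, Subtype.ext hw⟩)))

variable (M : ModuleCat.{u} R) (fs : List R)

/-- Zero-cocycles are the torsion elements. -/
noncomputable def zeroCycleEquiv :
    LinearMap.ker ((DerCA.extCech M fs).d 0 1).hom ≃ₗ[R]
      DRing.torsionSub (Ideal.span {a | a ∈ fs}) M :=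
  LinearEquiv.ofBijective
    ((aug M fs ∘ₗ Submodule.subtype _).codRestrict _
      fun x => (d_zero_iff_mem_torsionSub M fs x.1).1 x.2)
    ⟨fun x y h => Subtype.ext ((aug_bijective M fs).1 (congrArg Subtype.val h)), fun t => by
      obtain ⟨z, hz⟩ := (aug_bijective M fs).2 t.1
      exact ⟨⟨z, (d_zero_iff_mem_torsionSub M fs z).2 (hz ▸ t.2)⟩, Subtype.ext hz⟩⟩

theorem nonempty_homology_zero :
    Nonempty (DerCA.extCechH fs M 0 ≅ (DRing.gammaI (Ideal.span {a | a ∈ fs})).obj M) := by
  let C := DerCA.extCech M fs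
  have hm : (LinearMap.range (C.d (0 - 1) 0).hom).comap
      (LinearMap.ker (C.d 0 (0 + 1)).hom).subtype = ⊥ := by
    refine (Submodule.eq_bot_iff _).2 fun y ⟨w, hw⟩ => ?_
    have := subsingleton_X_of_neg M fs (0 - 1) (by lia)
    exact Subtype.ext (hw.symm.trans (by rw [Subsingleton.elim w 0, map_zero]; rfl))
  have e1 := ((homologyEquiv C 0).trans (Submodule.quotEquivOfEq _ _ hm)).trans
    (Submodule.quotEquivOfEqBot ⊥ rfl)
  exact ⟨(e1.trans (zeroCycleEquiv M fs)).toModuleIso⟩

end Groth.Agent.H4Cech
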