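import Groth.Agent.H4Cech.Map
import Groth.Agent.H4Cech.Homology

/-!
# The extended Čech complex computes local cohomology
-/

set_option autoImplicit false
set_option linter.unusedSectionVars false

universe u

open CategoryTheory CategoryTheory.Limits

namespace Groth.Agent.H4Cech

variable {R : Type u} [CommRing R]

/-- Homology as a quotient of cocycles, any indices. -/
noncomputable def homologyEquiv' (C : DRing.Cx R) (q p p' : ℤ) (h : q + 1 = p) (h' : p + 1 = p') :
    C.homology p ≃ₗ[R] H4LC.cohQ (C.d q p).hom (C.d p p').hom :=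
  (C.homologyIsoSc' q p p' (by simp; lia) (by simp; lia)).toLinearEquiv.trans
    ((C.sc' q p p').moduleCatHomologyIso.toLinearEquiv.trans
      (Submodule.quotEquivOfEq _ _ (by
        ext y
        constructor
        · rintro ⟨w, hw⟩
          exact ⟨w, congrArg Subtype.val hw⟩
        · rintro ⟨w, hw⟩
          exact ⟨w, Subtype.ext hw⟩)))

theorem exactAt_elem {C : DRing.Cx R} {q p p' : ℤ} (h : q + 1 = p) (h' : p + 1 = p')
    (hC : ExactAt' C p) {x : C.X p} (hx : (C.d p p').hom x = 0) :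
    ∃ y, (C.d q p).hom y = x := by
  obtain rfl : q = p - 1 := by lia
  obtain rfl : p' = p + 1 := h'.symm
  exact hC x hx

theorem cohπ_zero_of (C : DRing.Cx R) (q p p' : ℤ) (x : LinearMap.ker (C.d p p').hom)
    (w : C.X q) (hw : (C.d q p).hom w = x.1) : H4LC.cohπ (C.d q p).hom (C.d p p').hom x = 0 :=
  (H4LC.cohπ_eq_zero_iff _ _ x).2 ⟨w, hw⟩

section Shift

variable {L E N : ModuleCat.{u} R} {f : L ⟶ E} {g : E ⟶ N} (hf : Function.Injective f.hom)
  (hg : Function.Surjective g.hom) (hfg : Function.Exact f.hom g.hom) (fs : List R)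
  (p p' p'' : ℤ) (h : p + 1 = p') (h' : p' + 1 = p'')

/-- Cochains of `E` whose differential comes from `L`. -/
noncomputable def relCocycles (g : E ⟶ N) (fs : List R) (p p' : ℤ) :
    Submodule R ((DerCA.extCech E fs).X p) :=
  LinearMap.ker (mapX g fs p' ∘ₗ ((DerCA.extCech E fs).d p p').hom)

include hf hfg h h' in
/-- The snake map. -/
theorem exists_snake :
    ∃ α : relCocycles g fs p p' →ₗ[R]
        H4LC.cohQ ((DerCA.extCech L fs).d p p').hom ((DerCA.extCech L fs).d p' p'').hom,
      (ExactAt' (DerCA.extCech E fs) p' → Function.Surjective α) ∧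
      ∀ y, α y = 0 ↔ ∃ t, ((DerCA.extCech E fs).d p p').hom (y.1 - mapX f fs p t) = 0 := by
  let e := LinearEquiv.ofInjective (mapX f fs p') (mapX_injective f hf fs p')
  let dE : relCocycles g fs p p' →ₗ[R] (DerCA.extCech L fs).X p' :=
    e.symm.toLinearMap ∘ₗ (((DerCA.extCech E fs).d p p').hom ∘ₗ Submodule.subtype _).codRestrict _
      (fun y => (mapX_exact g f hfg fs p' _).1 y.2)
  have hdE : ∀ y, mapX f fs p' (dE y) = ((DerCA.extCech E fs).d p p').hom y.1 := fun y =>
    LinearEquiv.ofInjective_symm_apply (h := mapX_injective f hf fs p') _ _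
  let z : relCocycles g fs p p' →ₗ[R] LinearMap.ker ((DerCA.extCech L fs).d p' p'').hom :=
    dE.codRestrict _ fun y => LinearMap.mem_ker.2 <| mapX_injective f hf fs p'' <| by
      rw [mapX_d f fs p' p'' h', hdE, map_zero]
      exact congrArg (fun a => a.hom y.1) ((DerCA.extCech E fs).d_comp_d p p' p'')
  refine ⟨H4LC.cohπ _ _ ∘ₗ z, fun hex c => ?_, fun y => ?_⟩
  · obtain ⟨⟨x, hx⟩, rfl⟩ := H4LC.cohπ_surjective _ _ c
    obtain ⟨y, hy⟩ := exactAt_elem h h' hex (x := mapX f fs p' x)
      (by rw [← mapX_d f fs p' p'' h', LinearMap.mem_ker.1 hx, map_zero])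
    refine ⟨⟨y, ?_⟩, congrArg (H4LC.cohπ _ _) (Subtype.ext (mapX_injective f hf fs p' ?_))⟩
    · change mapX g fs p' (((DerCA.extCech E fs).d p p').hom y) = 0
      rw [hy]
      exact (mapX_exact g f hfg fs p').apply_apply_eq_zero x
    · exact (hdE _).trans hy
  · change H4LC.cohπ _ _ (z y) = 0 ↔ _
    rw [H4LC.cohπ_eq_zero_iff]
    refine exists_congr fun t => ?_
    rw [map_sub, sub_eq_zero, ← mapX_d f fs p p' h, ← hdE]
    exact ⟨fun e => (congrArg (mapX f fs p') e).symm,
      fun e => (mapX_injective f hf fs p' e).symm⟩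

include hf hg hfg h h' in
/-- Dimension shifting in positive degrees. -/
theorem nonempty_shift (q : ℤ) (hq : q + 1 = p) (hE : ExactAt' (DerCA.extCech E fs) p)
    (hE' : ExactAt' (DerCA.extCech E fs) p') :
    Nonempty (H4LC.cohQ ((DerCA.extCech L fs).d p p').hom ((DerCA.extCech L fs).d p' p'').hom ≃ₗ[R]
      H4LC.cohQ ((DerCA.extCech N fs).d q p).hom ((DerCA.extCech N fs).d p p').hom) := by
  obtain ⟨α, hαs, hαk⟩ := exists_snake hf hfg fs p p' p'' h h'
  let z : relCocycles g fs p p' →ₗ[R] LinearMap.ker ((DerCA.extCech N fs).d p p').hom :=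
    (mapX g fs p ∘ₗ Submodule.subtype _).codRestrict _ fun y => LinearMap.mem_ker.2 <| by
      refine (mapX_d g fs p p' h y.1).symm.trans ?_
      exact y.2
  let β := H4LC.cohπ ((DerCA.extCech N fs).d q p).hom ((DerCA.extCech N fs).d p p').hom ∘ₗ z
  have hβs : Function.Surjective β := by
    intro c
    obtain ⟨⟨x, hx⟩, rfl⟩ := H4LC.cohπ_surjective _ _ c
    obtain ⟨y, hy⟩ := mapX_surjective g hg fs p x
    refine ⟨⟨y, ?_⟩, congrArg (H4LC.cohπ _ _) (Subtype.ext hy)⟩
    change mapX g fs p' (((DerCA.extCech E fs).d p p').hom y) = 0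
    rw [mapX_d g fs p p' h, hy]
    exact hx
  have hker : LinearMap.ker α = LinearMap.ker β := by
    ext y
    rw [LinearMap.mem_ker, LinearMap.mem_ker, hαk]
    change _ ↔ H4LC.cohπ _ _ (z y) = 0
    rw [H4LC.cohπ_eq_zero_iff]
    constructor
    · rintro ⟨t, ht⟩
      obtain ⟨w, hw⟩ := exactAt_elem hq h hE ht
      refine ⟨mapX g fs q w, ?_⟩
      change ((DerCA.extCech N fs).d q p).hom _ = mapX g fs p y.1
      rw [← mapX_d g fs q p hq, hw, map_sub, (mapX_exact g f hfg fs p).apply_apply_eq_zero, sub_zero]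
    · rintro ⟨v, hv⟩
      obtain ⟨w, rfl⟩ := mapX_surjective g hg fs q v
      rw [← mapX_d g fs q p hq] at hv
      obtain ⟨t, ht⟩ := (mapX_exact g f hfg fs p (y.1 - ((DerCA.extCech E fs).d q p).hom w)).1
        (by rw [map_sub]; exact sub_eq_zero.2 hv.symm)
      refine ⟨t, ?_⟩
      rw [ht, sub_sub_cancel]
      exact congrArg (fun a => a.hom w) ((DerCA.extCech E fs).d_comp_d q p p')
  exact ⟨((α.quotKerEquivOfSurjective (hαs hE')).symm.trans (Submodule.quotEquivOfEq _ _ hker)).trans
    (β.quotKerEquivOfSurjective hβs)⟩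

end Shift

section Main

variable [IsNoetherianRing R] (fs : List R)

/-- The ideal generated by the list. -/
abbrev listIdeal : Ideal R := Ideal.span {a | a ∈ fs}

theorem nonempty_one {L E N : ModuleCat.{u} R} {f : L ⟶ E} {g : E ⟶ N}
    (hf : Function.Injective f.hom) (hg : Function.Surjective g.hom)
    (hfg : Function.Exact f.hom g.hom) [Module.Injective R E] :
    Nonempty (H4LC.cohQ ((DerCA.extCech L fs).d 0 1).hom ((DerCA.extCech L fs).d 1 2).hom ≃ₗ[R]
      LocCoh.H (listIdeal fs) 1 L) := by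
  obtain ⟨α, hαs, hαk⟩ := exists_snake hf hfg fs 0 1 2 rfl rfl
  let z : relCocycles g fs 0 1 →ₗ[R] LinearMap.ker ((DerCA.extCech N fs).d 0 1).hom :=
    (mapX g fs 0 ∘ₗ Submodule.subtype _).codRestrict _ fun y => LinearMap.mem_ker.2 <| by
      refine (mapX_d g fs 0 1 rfl y.1).symm.trans ?_
      exact y.2
  let δ := H4LC.δH (listIdeal fs) hf hg hfg 0
  let γ : relCocycles g fs 0 1 →ₗ[R] LocCoh.H (listIdeal fs) 1 L :=
    δ ∘ₗ ((H4LC.zeroEquiv (listIdeal fs) N).symm.toLinearMap ∘ₗ
      (zeroCycleEquiv N fs).toLinearMap ∘ₗ z)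
  have hzs : Function.Surjective z := fun x => by
    obtain ⟨y, hy⟩ := mapX_surjective g hg fs 0 x.1
    refine ⟨⟨y, ?_⟩, Subtype.ext hy⟩
    change mapX g fs 1 (((DerCA.extCech E fs).d 0 1).hom y) = 0
    rw [mapX_d g fs 0 1 rfl, hy]
    exact x.2
  have hγs : Function.Surjective γ :=
    (H4LC.δH_surjective _ hf hg hfg 0
      (H4LC.subsingleton_H_of_injective _ E one_pos)).comp
      ((H4LC.zeroEquiv _ _).symm.surjective.comp ((zeroCycleEquiv N fs).surjective.comp hzs))
  have hker : LinearMap.ker α = LinearMap.ker γ := by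
    ext y
    rw [LinearMap.mem_ker, LinearMap.mem_ker, hαk]
    change _ ↔ δ _ = 0
    rw [H4LC.exactH₃ (listIdeal fs) hf hg hfg 0 _]
    constructor
    · rintro ⟨t, ht⟩
      let e₀ : LinearMap.ker ((DerCA.extCech E fs).d 0 1).hom := ⟨y.1 - mapX f fs 0 t, ht⟩
      refine ⟨(H4LC.zeroEquiv _ E).symm (zeroCycleEquiv E fs e₀), ?_⟩
      apply (H4LC.zeroEquiv _ N).injective
      apply Subtype.ext
      rw [H4LC.zeroEquiv_naturality]
      simp only [LinearMap.comp_apply, LinearEquiv.coe_coe, LinearEquiv.apply_symm_apply]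
      change g.hom (aug E fs (y.1 - mapX f fs 0 t)) = aug N fs (mapX g fs 0 y.1)
      rw [← mapX_aug, map_sub, (mapX_exact g f hfg fs 0).apply_apply_eq_zero, sub_zero]
    · rintro ⟨w, hw⟩
      obtain ⟨e₀, he₀⟩ := (zeroCycleEquiv E fs).surjective (H4LC.zeroEquiv _ E w)
      have h1 := congrArg Subtype.val (congrArg (H4LC.zeroEquiv (listIdeal fs) N) hw)
      rw [H4LC.zeroEquiv_naturality, ← he₀] at h1
      simp only [LinearMap.comp_apply, LinearEquiv.coe_coe, LinearEquiv.apply_symm_apply] at h1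
      change g.hom (aug E fs e₀.1) = aug N fs (mapX g fs 0 y.1) at h1
      rw [← mapX_aug] at h1
      obtain ⟨t, ht⟩ := (mapX_exact g f hfg fs 0 (y.1 - e₀.1)).1
        (by rw [map_sub, sub_eq_zero]; exact ((aug_bijective N fs).1 h1).symm)
      refine ⟨t, ?_⟩
      rw [ht, sub_sub_cancel]
      exact e₀.2
  exact ⟨((α.quotKerEquivOfSurjective (hαs (exactAt_of_injective E fs 1 le_rfl))).symm.trans
    (Submodule.quotEquivOfEq _ _ hker)).trans (γ.quotKerEquivOfSurjective hγs)⟩

/-- Čech cohomology is local cohomology. -/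
theorem nonempty_cech_H : ∀ (i : ℕ) (q p p' : ℤ) (_ : q + 1 = p) (_ : p + 1 = p') (_ : p = i)
    (M : ModuleCat.{u} R),
    Nonempty (H4LC.cohQ ((DerCA.extCech M fs).d q p).hom ((DerCA.extCech M fs).d p p').hom ≃ₗ[R]
      LocCoh.H (listIdeal fs) i M) := by
  intro i
  induction i with
  | zero =>
    intro q p p' h h' hp M
    obtain rfl : p = 0 := hp
    obtain ⟨e⟩ := nonempty_homology_zero M fs
    exact ⟨((homologyEquiv' (DerCA.extCech M fs) q 0 p' h h').symm.trans e.toLinearEquiv).trans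
      (H4LC.zeroEquiv (listIdeal fs) M).symm⟩
  | succ i ih =>
    intro q p p' h h' hp M
    let E : ModuleCat.{u} R := Injective.under M
    let f : M ⟶ E := Injective.ι M
    have hf : Function.Injective f.hom := (ModuleCat.mono_iff_injective _).1 inferInstance
    have hE : Module.Injective R E :=
      (Module.injective_iff_injective_object R _).mpr (Injective.injective_under M)
    let N : ModuleCat.{u} R := ModuleCat.of R (E ⧸ LinearMap.range f.hom)
    let g : E ⟶ N := ModuleCat.ofHom (LinearMap.range f.hom).mkQ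
    have hg : Function.Surjective g.hom := (LinearMap.range f.hom).mkQ_surjective
    have hfg : Function.Exact f.hom g.hom := LinearMap.exact_map_mkQ_range f.hom
    rcases i with _ | i
    · obtain rfl : p = 1 := hp
      obtain rfl : q = 0 := by lia
      obtain rfl : p' = 2 := by lia
      exact nonempty_one fs hf hg hfg
    · obtain ⟨e₁⟩ := nonempty_shift hf hg hfg fs q p p' h h' (q - 1) (by lia)
        (exactAt_of_injective E fs q (by push_cast at hp; lia))
        (exactAt_of_injective E fs p (by push_cast at hp; lia))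
      obtain ⟨e₂⟩ := ih (q - 1) q p (by lia) h (by push_cast at hp ⊢; lia) N
      exact ⟨(e₁.trans e₂).trans (LinearEquiv.ofBijective _
        ⟨H4LC.δH_injective _ hf hg hfg (i + 1) (H4LC.subsingleton_H_of_injective _ E i.succ_pos),
          H4LC.δH_surjective _ hf hg hfg (i + 1)
            (H4LC.subsingleton_H_of_injective _ E (i + 1).succ_pos)⟩)⟩

theorem nonempty_extCechH_iso (M : ModuleCat.{u} R) (i : ℕ) :
    Nonempty (DerCA.extCechH fs M (i : ℤ) ≅ (localCohomology (listIdeal fs) i).obj M) := by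
  obtain ⟨e⟩ := nonempty_cech_H fs i ((i : ℤ) - 1) i (i + 1) (by lia) rfl rfl M
  exact ⟨((homologyEquiv' (DerCA.extCech M fs) ((i : ℤ) - 1) i (i + 1) (by lia) rfl).trans e).toModuleIso⟩

end Main

end Groth.Agent.H4Cech
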