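import Groth.Prelude.Def_DerCA
import Groth.Agent.H4LC.Acyclic

/-!
# The extended Čech complex, element-wise
-/

set_option autoImplicit false
set_option linter.unusedSectionVars false

universe u

open CategoryTheory CategoryTheory.Limits HomologicalComplex

namespace CochainComplex

open HomComplex

variable {C : Type*} [Category* C] [Preadditive C] {K L : CochainComplex C ℤ} (φ : K ⟶ L)
  [HasHomotopyCofiber φ]

set_option backward.isDefEq.respectTransparency false in
set_option backward.defeqAttrib.useBackward true in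
theorem mappingCocone_d_snd (q p p' : ℤ) (h : q + 1 = p) (h' : p + 1 = p') :
    (mappingCocone φ).d p p' ≫ (mappingCocone.snd φ).v p' p (by lia) =
      -((mappingCocone.fst φ).f p ≫ φ.f p) - (mappingCocone.snd φ).v p q (by lia) ≫ L.d q p := by
  obtain rfl : q = p + -1 := by lia
  simp [mappingCocone, mappingCocone.fst, mappingCocone.snd,
    Cochain.leftShift_v (n := 0) _ (-1) (-1) _ p' p _ p (by lia),
    Cochain.leftShift_v (n := 0) _ (-1) (-1) _ p (p + -1) _ (p + -1) (by lia),
    Cochain.leftShift_v (n := 1) _ (-1) 0 _ p p _ (p + -1) (by lia),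
    shiftFunctorObjXIso, Int.negOnePow_even 2 ⟨1, rfl⟩, mappingCone.d_snd_v φ (p + -1) p (by lia)]
  abel

end CochainComplex

namespace Groth.Agent.H4Cech

variable {R : Type u} [CommRing R]

open CochainComplex

section Cocone

variable {K L : DRing.Cx R} (φ : K ⟶ L)

/-- A degree of the cocone is a product. -/
noncomputable def kl (q p : ℤ) (h : q + 1 = p) :
    (mappingCocone φ).X p ≃ₗ[R] K.X p × L.X q :=
  LinearEquiv.ofLinearMap
    (((mappingCocone.fst φ).f p).hom.prod ((mappingCocone.snd φ).v p q (by lia)).hom)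
    (((mappingCocone.inl φ).v p p (add_zero p)).hom.coprod
      ((mappingCocone.inr φ).1.v q p h).hom)
    (by
      refine LinearMap.ext fun ⟨a, b⟩ => Prod.ext ?_ ?_
      · change ((mappingCocone.fst φ).f p).hom (((mappingCocone.inl φ).v p p (add_zero p)).hom a +
          ((mappingCocone.inr φ).1.v q p h).hom b) = a
        rw [map_add]
        refine (congrArg₂ (· + ·) (congrArg (fun e => e.hom a) (mappingCocone.inl_v_fst_f φ p))
          (congrArg (fun e => e.hom b) (mappingCocone.inr_v_fst_f φ q p h))).trans ?_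
        exact add_zero a
      · change ((mappingCocone.snd φ).v p q _).hom (((mappingCocone.inl φ).v p p (add_zero p)).hom a +
          ((mappingCocone.inr φ).1.v q p h).hom b) = b
        rw [map_add]
        refine (congrArg₂ (· + ·) (congrArg (fun e => e.hom a) (mappingCocone.inl_v_snd_v φ p q (by lia)))
          (congrArg (fun e => e.hom b) (mappingCocone.inr_v_snd_v φ q p h))).trans ?_
        exact zero_add b)
    (by
      refine LinearMap.ext fun x => ?_
      exact congrArg (fun e => e.hom x) (mappingCocone.id_X φ p q (by lia)))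

/-- The first component. -/
noncomputable abbrev fstc (p : ℤ) : (mappingCocone φ).X p →ₗ[R] K.X p :=
  ((mappingCocone.fst φ).f p).hom

/-- The second component. -/
noncomputable abbrev sndc (q p : ℤ) (h : q + 1 = p) : (mappingCocone φ).X p →ₗ[R] L.X q :=
  ((mappingCocone.snd φ).v p q (by lia)).hom

theorem kl_apply (q p : ℤ) (h : q + 1 = p) (x : (mappingCocone φ).X p) :
    kl φ q p h x = (fstc φ p x, sndc φ q p h x) := rfl

theorem cocone_ext {q p : ℤ} (h : q + 1 = p) {x y : (mappingCocone φ).X p}
    (h₁ : fstc φ p x = fstc φ p y) (h₂ : sndc φ q p h x = sndc φ q p h y) : x = y :=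
  (kl φ q p h).injective (Prod.ext h₁ h₂)

theorem exists_cocone (q p : ℤ) (h : q + 1 = p) (a : K.X p) (b : L.X q) :
    ∃ x, fstc φ p x = a ∧ sndc φ q p h x = b :=
  ⟨(kl φ q p h).symm (a, b), congrArg Prod.fst ((kl φ q p h).apply_symm_apply (a, b)),
    congrArg Prod.snd ((kl φ q p h).apply_symm_apply (a, b))⟩

theorem fstc_d (p p' : ℤ) (x : (mappingCocone φ).X p) :
    fstc φ p' (((mappingCocone φ).d p p').hom x) = (K.d p p').hom (fstc φ p x) :=
  (congrArg (fun e => e.hom x) ((mappingCocone.fst φ).comm p p')).symm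

theorem sndc_d {q p p' : ℤ} (h : q + 1 = p) (h' : p + 1 = p') (x : (mappingCocone φ).X p) :
    sndc φ p p' h' (((mappingCocone φ).d p p').hom x) =
      -(φ.f p).hom (fstc φ p x) - (L.d q p).hom (sndc φ q p h x) :=
  congrArg (fun e => e.hom x) (CochainComplex.mappingCocone_d_snd φ q p p' h h')

theorem d_eq_zero_iff {q p p' : ℤ} (h : q + 1 = p) (h' : p + 1 = p') (x : (mappingCocone φ).X p) :
    ((mappingCocone φ).d p p').hom x = 0 ↔
      (K.d p p').hom (fstc φ p x) = 0 ∧
        (φ.f p).hom (fstc φ p x) + (L.d q p).hom (sndc φ q p h x) = 0 := by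
  constructor
  · intro hx
    constructor
    · rw [← fstc_d, hx, map_zero]
    · have := sndc_d φ h h' x
      rw [hx, map_zero] at this
      rw [← neg_eq_zero, neg_add']
      exact this.symm
  · rintro ⟨h₁, h₂⟩
    refine cocone_ext φ h' (by rw [fstc_d, h₁, map_zero]) ?_
    rw [sndc_d φ h h', map_zero, ← neg_add', h₂, neg_zero]

end Cocone

/-- A complex is exact at a degree, element-wise. -/
def ExactAt' (C : DRing.Cx R) (p : ℤ) : Prop :=
  ∀ x : C.X p, (C.d p (p + 1)).hom x = 0 → ∃ y : C.X (p - 1), (C.d (p - 1) p).hom y = x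

theorem isZero_homology_iff (C : DRing.Cx R) (p : ℤ) :
    IsZero (C.homology p) ↔ ExactAt' C p := by
  rw [← HomologicalComplex.exactAt_iff_isZero_homology,
    HomologicalComplex.exactAt_iff' C (p - 1) p (p + 1) (by simp) (by simp),
    ShortComplex.moduleCat_exact_iff]
  exact Iff.rfl

section Loc

variable (f : R)

/-- Localisation of a complex. -/
noncomputable abbrev locC (C : DRing.Cx R) : DRing.Cx R := (DerCA.locCx (Submonoid.powers f)).obj C

/-- An element of a localised complex. -/
noncomputable abbrev lmk {C : DRing.Cx R} {p : ℤ} (x : C.X p) (s : Submonoid.powers f) :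
    (locC f C).X p :=
  (LocalizedModule.mk x s : LocalizedModule (Submonoid.powers f) (C.X p))

theorem exists_lmk {C : DRing.Cx R} {p : ℤ} (z : (locC f C).X p) : ∃ x s, lmk f x s = z := by
  induction (show LocalizedModule (Submonoid.powers f) (C.X p) from z)
    using LocalizedModule.induction_on with
  | h m s => exact ⟨m, s, rfl⟩

theorem locC_d {C : DRing.Cx R} (p p' : ℤ) (x : C.X p) (s : Submonoid.powers f) :
    ((locC f C).d p p').hom (lmk f x s) = lmk f ((C.d p p').hom x) s :=
  IsLocalizedModule.map_LocalizedModules (Submonoid.powers f) (C.d p p').hom x s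

theorem locCxUnit_f {C : DRing.Cx R} (p : ℤ) (x : C.X p) :
    ((DerCA.locCxUnit (Submonoid.powers f) C).f p).hom x = lmk f x 1 := rfl

theorem exactAt_locC {C : DRing.Cx R} {p : ℤ} (h : ExactAt' C p) : ExactAt' (locC f C) p := by
  intro z hz
  obtain ⟨x, s, rfl⟩ := exists_lmk f z
  rw [locC_d] at hz
  obtain ⟨t, ht⟩ := LocalizedModule.mk_eq.1 (hz.trans (LocalizedModule.zero_mk 1).symm)
  simp only [one_smul, smul_zero] at ht
  obtain ⟨y, hy⟩ := h ((t : R) • x) (by rw [map_smul]; exact ht)
  refine ⟨lmk f y (t * s), ?_⟩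
  rw [locC_d, hy]
  refine LocalizedModule.mk_eq.2 ⟨1, ?_⟩
  simp [Submonoid.smul_def, smul_smul, mul_comm]

end Loc

/-- `f` acts bijectively on each term. -/
def BijTerms (f : R) (C : DRing.Cx R) : Prop := ∀ p, Function.Bijective fun x : C.X p => f • x

theorem bijective_smul_localized (f g : R) {M : Type u} [AddCommGroup M] [Module R M]
    (h : Function.Bijective fun m : M => g • m) :
    Function.Bijective fun z : LocalizedModule (Submonoid.powers f) M => g • z := by
  constructor
  · intro z w hzw
    induction z using LocalizedModule.induction_on with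
    | h m s =>
    induction w using LocalizedModule.induction_on with
    | h m' s' =>
      change g • LocalizedModule.mk m s = g • LocalizedModule.mk m' s' at hzw
      rw [LocalizedModule.smul'_mk, LocalizedModule.smul'_mk, LocalizedModule.mk_eq] at hzw
      obtain ⟨t, ht⟩ := hzw
      refine LocalizedModule.mk_eq.2 ⟨t, h.1 ?_⟩
      simp only [Submonoid.smul_def] at ht ⊢
      simpa only [smul_comm g] using ht
  · intro z
    induction z using LocalizedModule.induction_on with
    | h m s =>
      obtain ⟨m', hm'⟩ := h.2 m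
      exact ⟨LocalizedModule.mk m' s, (LocalizedModule.smul'_mk _ _ _).trans (congrArg (fun a => LocalizedModule.mk a s) hm')⟩

variable (M : ModuleCat.{u} R)

theorem bijTerms_extCech {g : R} (h : Function.Bijective fun m : M => g • m) :
    ∀ fs : List R, BijTerms g (DerCA.extCech M fs) := by
  intro fs
  induction fs with
  | nil =>
    intro p
    by_cases hp : p = 0
    · subst hp
      have e := (HomologicalComplex.singleObjXSelf (ComplexShape.up ℤ) 0 M).toLinearEquiv
      have : (fun x : (DerCA.extCech M ([] : List R)).X 0 => g • x) =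
          e.symm ∘ (fun m : M => g • m) ∘ e := funext fun x => by
        change g • x = e.symm (g • e x)
        rw [map_smul]
        exact congrArg (g • ·) (e.symm_apply_apply x).symm
      rw [this]
      exact e.symm.bijective.comp (h.comp e.bijective)
    · have := ModuleCat.isZero_iff_subsingleton.1
        (HomologicalComplex.isZero_single_obj_X (ComplexShape.up ℤ) 0 M p hp)
      exact ⟨fun x y _ => @Subsingleton.elim _ this x y,
        fun y => ⟨y, @Subsingleton.elim _ this _ _⟩⟩
  | cons f fs ih =>
    intro p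
    let e := kl (DerCA.locCxUnit (Submonoid.powers f) (DerCA.extCech M fs)) (p - 1) p (by lia)
    have : (fun x : (DerCA.extCech M (f :: fs)).X p => g • x) =
        e.symm ∘ (Prod.map (g • ·) (g • ·)) ∘ e := funext fun x =>
      (e.injective ((e.apply_symm_apply _).trans (map_smul e g x).symm)).symm
    rw [this]
    exact e.symm.bijective.comp
      (((ih p).prodMap (bijective_smul_localized f g (ih (p - 1)))).comp e.bijective)

theorem exactAt_of_bijective {g : R} {fs : List R} (hg : g ∈ fs)
    (h : Function.Bijective fun m : M => g • m) :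
    ∀ p, ExactAt' (DerCA.extCech M fs) p := by
  induction fs with
  | nil => exact absurd hg (List.not_mem_nil)
  | cons f fs ih =>
    intro p x hx
    let φ := DerCA.locCxUnit (Submonoid.powers f) (DerCA.extCech M fs)
    obtain ⟨hx₁, hx₂⟩ := (d_eq_zero_iff φ (q := p - 1) (by lia) rfl x).1 hx
    by_cases hgf : g = f
    · subst hgf
      have hb : ∀ q, Function.Bijective
          (φ.f q).hom := fun q => by
        have hbt := bijTerms_extCech M h fs q
        have hpow : ∀ k : ℕ, Function.Bijective fun a : (DerCA.extCech M fs).X q => g ^ k • a := by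
          intro k
          induction k with
          | zero => simp only [pow_zero, one_smul]; exact Function.bijective_id
          | succ k ihk =>
            have := ihk.comp hbt
            simpa [Function.comp_def, smul_smul, pow_succ] using this
        constructor
        · intro a b hab
          obtain ⟨⟨_, k, rfl⟩, hk⟩ := LocalizedModule.mk_eq.1 hab
          simp only [Submonoid.smul_def, one_smul] at hk
          exact (hpow k).1 hk
        · intro z
          obtain ⟨a, ⟨_, k, rfl⟩, rfl⟩ := exists_lmk g z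
          obtain ⟨b, hb⟩ := (hpow k).2 a
          exact ⟨b, LocalizedModule.mk_eq.2 ⟨1, by simpa [Submonoid.smul_def] using hb⟩⟩
      obtain ⟨c, hc⟩ := (hb (p - 1)).2 (sndc φ (p - 1) p (by lia) x)
      obtain ⟨y, hy₁, hy₂⟩ := exists_cocone φ (p - 1 - 1) (p - 1) (by lia) (-c) 0
      have hcomm : (φ.f p).hom (((DerCA.extCech M fs).d (p - 1) p).hom c) =
          ((locC g (DerCA.extCech M fs)).d (p - 1) p).hom ((φ.f (p - 1)).hom c) :=
        (congrArg (fun e => e.hom c) (φ.comm (p - 1) p)).symm
      have hfst : fstc φ p x = -((DerCA.extCech M fs).d (p - 1) p).hom c := by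
        refine (hb p).1 ?_
        rw [map_neg, hcomm, hc, ← eq_neg_iff_add_eq_zero.2 hx₂]
      refine ⟨y, cocone_ext φ (q := p - 1) (by lia) ?_ ?_⟩
      · refine (fstc_d φ (p - 1) p y).trans ?_
        rw [hy₁, map_neg, hfst]
      · refine (sndc_d φ (q := p - 1 - 1) (p := p - 1) (p' := p) (by lia) (by lia) y).trans ?_
        rw [hy₁, hy₂, map_neg, map_zero, neg_neg, sub_zero, hc]
    · have hgfs : g ∈ fs := (List.mem_cons.1 hg).resolve_left hgf
      obtain ⟨c, hc⟩ := ih hgfs p (fstc φ p x) hx₁
      have hcomm : (φ.f p).hom (((DerCA.extCech M fs).d (p - 1) p).hom c) =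
          ((locC f (DerCA.extCech M fs)).d (p - 1) p).hom ((φ.f (p - 1)).hom c) :=
        (congrArg (fun e => e.hom c) (φ.comm (p - 1) p)).symm
      have hcyc : ((locC f (DerCA.extCech M fs)).d (p - 1) (p - 1 + 1)).hom
          (sndc φ (p - 1) p (by lia) x + (φ.f (p - 1)).hom c) = 0 := by
        have e : p - 1 + 1 = p := by lia
        rw [e, map_add, ← hcomm, hc, add_comm]
        exact hx₂
      obtain ⟨e, he⟩ := exactAt_locC f (ih hgfs (p - 1)) _ hcyc
      obtain ⟨y, hy₁, hy₂⟩ := exists_cocone φ (p - 1 - 1) (p - 1) (by lia) c (-e)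
      refine ⟨y, cocone_ext φ (q := p - 1) (by lia) ?_ ?_⟩
      · refine (fstc_d φ (p - 1) p y).trans ?_
        rw [hy₁, hc]
      · refine (sndc_d φ (q := p - 1 - 1) (p := p - 1) (p' := p) (by lia) (by lia) y).trans ?_
        rw [hy₁, hy₂, map_neg, sub_neg_eq_add, he]
        abel

theorem subsingleton_X_of_neg : ∀ (fs : List R) (p : ℤ), p < 0 →
    Subsingleton ((DerCA.extCech M fs).X p) := by
  intro fs
  induction fs with
  | nil =>
    intro p hp
    exact ModuleCat.isZero_iff_subsingleton.1
      (HomologicalComplex.isZero_single_obj_X (ComplexShape.up ℤ) 0 M p (by lia))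
  | cons f fs ih =>
    intro p hp
    have := ih p hp
    have h1 : Subsingleton ((locC f (DerCA.extCech M fs)).X (p - 1)) :=
      subsingleton_of_forall_eq 0 fun z => by
        obtain ⟨x, s, rfl⟩ := exists_lmk f z
        rw [@Subsingleton.elim _ (ih (p - 1) (by lia)) x 0]
        exact LocalizedModule.zero_mk s
    exact (kl (DerCA.locCxUnit (Submonoid.powers f) (DerCA.extCech M fs)) (p - 1) p (by lia)).toEquiv.subsingleton

/-- The augmentation `C⁰ → M`. -/
noncomputable def aug : ∀ fs : List R, (DerCA.extCech M fs).X 0 →ₗ[R] M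
  | [] => (HomologicalComplex.singleObjXSelf (ComplexShape.up ℤ) 0 M).hom.hom
  | f :: fs => aug fs ∘ₗ fstc (DerCA.locCxUnit (Submonoid.powers f) (DerCA.extCech M fs)) 0

theorem subsingleton_locC_X_neg (f : R) (fs : List R) (p : ℤ) (hp : p < 0) :
    Subsingleton ((locC f (DerCA.extCech M fs)).X p) :=
  subsingleton_of_forall_eq 0 fun z => by
    obtain ⟨x, s, rfl⟩ := exists_lmk f z
    rw [@Subsingleton.elim _ (subsingleton_X_of_neg M fs p hp) x 0]
    exact LocalizedModule.zero_mk s

theorem aug_bijective : ∀ fs : List R, Function.Bijective (aug M fs) := by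
  intro fs
  induction fs with
  | nil => exact (HomologicalComplex.singleObjXSelf (ComplexShape.up ℤ) 0 M).toLinearEquiv.bijective
  | cons f fs ih =>
    refine ih.comp ?_
    have := subsingleton_locC_X_neg M f fs (-1) (by lia)
    exact ⟨fun x y hxy => cocone_ext _ (q := -1) (by lia) hxy (Subsingleton.elim _ _),
      fun a => ⟨_, (exists_cocone _ (-1) 0 (by lia) a 0).choose_spec.1⟩⟩

theorem mem_torsionSub_cons (f : R) (fs : List R) {X : Type u} [AddCommGroup X] [Module R X]
    (x : X) :
    x ∈ DRing.torsionSub (Ideal.span {a | a ∈ f :: fs}) X ↔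
      x ∈ DRing.torsionSub (Ideal.span {a | a ∈ fs}) X ∧ ∃ k : ℕ, f ^ k • x = 0 := by
  have hspan : Ideal.span {a | a ∈ f :: fs} = Ideal.span {a | a ∈ fs} ⊔ Ideal.span {f} := by
    rw [← Ideal.span_union]
    congr 1
    ext a
    simp [or_comm]
  rw [hspan]
  constructor
  · rintro ⟨n, hn⟩
    exact ⟨⟨n, fun a ha => hn a (Ideal.pow_right_mono le_sup_left n ha)⟩, n,
      hn _ (Ideal.pow_mem_pow (Submodule.mem_sup_right (Ideal.mem_span_singleton_self f)) n)⟩
  · rintro ⟨⟨n, hn⟩, k, hk⟩
    refine ⟨n + k, fun a ha => ?_⟩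
    obtain ⟨b, hb, c, hc, rfl⟩ := Submodule.mem_sup.1 (Ideal.sup_pow_add_le_pow_sup_pow ha)
    rw [Ideal.span_singleton_pow, Ideal.mem_span_singleton'] at hc
    obtain ⟨r, rfl⟩ := hc
    rw [add_smul, hn b hb, mul_smul, hk, smul_zero, add_zero]

theorem d_zero_iff_mem_torsionSub : ∀ (fs : List R) (x : (DerCA.extCech M fs).X 0),
    ((DerCA.extCech M fs).d 0 1).hom x = 0 ↔
      aug M fs x ∈ DRing.torsionSub (Ideal.span {a | a ∈ fs}) M := by
  intro fs
  induction fs with
  | nil =>
    intro x
    refine iff_of_true ?_ ⟨1, fun a ha => ?_⟩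
    · exact @Subsingleton.elim _ (ModuleCat.isZero_iff_subsingleton.1
        (HomologicalComplex.isZero_single_obj_X (ComplexShape.up ℤ) 0 M 1 (by lia))) _ _
    · rw [pow_one, show {a : R | a ∈ ([] : List R)} = ∅ by ext; simp, Ideal.span_empty,
        Ideal.mem_bot] at ha
      rw [ha, zero_smul]
  | cons f fs ih =>
    intro x
    let φ := DerCA.locCxUnit (Submonoid.powers f) (DerCA.extCech M fs)
    have hs := subsingleton_locC_X_neg M f fs (-1) (by lia)
    rw [mem_torsionSub_cons]
    refine (d_eq_zero_iff φ (q := -1) (by lia) rfl x).trans (and_congr (ih (fstc φ 0 x)) ?_)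
    rw [@Subsingleton.elim _ hs (sndc φ (-1) 0 (by lia) x) 0, map_zero, add_zero, locCxUnit_f]
    constructor
    · intro h
      obtain ⟨⟨_, k, rfl⟩, hk⟩ := LocalizedModule.mk_eq.1 (h.trans (LocalizedModule.zero_mk 1).symm)
      simp only [Submonoid.smul_def, one_smul, smul_zero] at hk
      refine ⟨k, ?_⟩
      change f ^ k • aug M fs (fstc φ 0 x) = 0
      rw [← map_smul, hk, map_zero]
    · rintro ⟨k, hk⟩
      refine (LocalizedModule.mk_eq.2 ⟨⟨f ^ k, pow_mem (Submonoid.mem_powers f) k⟩, ?_⟩).trans (LocalizedModule.zero_mk 1)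
      simp only [Submonoid.smul_def, one_smul, smul_zero]
      refine (aug_bijective M fs).1 ?_
      rw [map_smul, map_zero]
      exact hk

/-- Positive-degree acyclicity on injective modules. -/
theorem exactAt_of_injective [IsNoetherianRing R] [Module.Injective R M] :
    ∀ (fs : List R) (p : ℤ), 1 ≤ p → ExactAt' (DerCA.extCech M fs) p := by
  intro fs
  induction fs with
  | nil =>
    intro p hp x _
    exact ⟨0, @Subsingleton.elim _ (ModuleCat.isZero_iff_subsingleton.1
      (HomologicalComplex.isZero_single_obj_X (ComplexShape.up ℤ) 0 M p (by lia))) _ _⟩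
  | cons f fs ih =>
    intro p hp x hx
    let K := DerCA.extCech M fs
    let φ := DerCA.locCxUnit (Submonoid.powers f) K
    obtain ⟨hx₁, hx₂⟩ := (d_eq_zero_iff φ (q := p - 1) (by lia) rfl x).1 hx
    obtain ⟨c, hc⟩ := ih p hp (fstc φ p x) hx₁
    have hcomm : ∀ c, (φ.f p).hom ((K.d (p - 1) p).hom c) =
        ((locC f K).d (p - 1) p).hom ((φ.f (p - 1)).hom c) :=
      fun c => (congrArg (fun e => e.hom c) (φ.comm (p - 1) p)).symm
    -- `sndc x + φ c` is hit by `d` or by a cycle of `K`
    obtain ⟨c', hc', e, he⟩ : ∃ c' : K.X (p - 1), (K.d (p - 1) p).hom c' = 0 ∧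
        ∃ e : (locC f K).X (p - 1 - 1), sndc φ (p - 1) p (by lia) x + (φ.f (p - 1)).hom c =
          (φ.f (p - 1)).hom c' + ((locC f K).d (p - 1 - 1) (p - 1)).hom e := by
      have hcyc : ((locC f K).d (p - 1) p).hom
          (sndc φ (p - 1) p (by lia) x + (φ.f (p - 1)).hom c) = 0 := by
        rw [map_add, ← hcomm, hc, add_comm]
        exact hx₂
      rcases eq_or_lt_of_le hp with hp1 | hp1
      · subst hp1
        obtain ⟨a, s, ha⟩ := exists_lmk f (sndc φ (1 - 1) 1 (by lia) x + (φ.f (1 - 1)).hom c)
        rw [← ha, locC_d] at hcyc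
        obtain ⟨t, ht⟩ := LocalizedModule.mk_eq.1 (hcyc.trans (LocalizedModule.zero_mk 1).symm)
        simp only [one_smul, smul_zero, Submonoid.smul_def] at ht
        have hta : (K.d 0 1).hom ((t : R) • (show K.X 0 from a)) = 0 := by
          rw [map_smul]; exact ht
        have hT := (d_zero_iff_mem_torsionSub M fs _).1 hta
        obtain ⟨_, k, rfl⟩ := t
        obtain ⟨_, l, rfl⟩ := s
        have := Groth.Agent.H4LC.injective_torsionSub (Ideal.span {a | a ∈ fs}) M inferInstance
        obtain ⟨y, hy⟩ := (Groth.Agent.H4LC.bijective_smul_quotient_torsion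
          (E := DRing.torsionSub (Ideal.span {a | a ∈ fs}) M) (f ^ (k + l))).2
            (Submodule.Quotient.mk ⟨_, hT⟩)
        obtain ⟨⟨y, hyT⟩, rfl⟩ := Submodule.Quotient.mk_surjective _ y
        obtain ⟨j, hj⟩ := (Submodule.Quotient.eq _).1 hy
        obtain ⟨z, hz⟩ := (aug_bijective M fs).2 y
        refine ⟨z, (d_zero_iff_mem_torsionSub M fs z).2 (hz ▸ hyT), 0, ?_⟩
        rw [map_zero, add_zero, ← ha, locCxUnit_f]
        refine LocalizedModule.mk_eq.2 ⟨⟨f ^ ((k + l) * j + k), pow_mem (Submonoid.mem_powers f) _⟩, ?_⟩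
        have h0 : f ^ ((k + l) * j) • (f ^ (k + l) • y - f ^ k • aug M fs a) = 0 := by
          rw [← map_smul]
          exact congrArg Subtype.val
            (hj _ (by rw [pow_mul]; exact Ideal.pow_mem_pow (Ideal.mem_span_singleton_self _) j))
        refine (aug_bijective M fs).1 ?_
        simp only [Submonoid.smul_def, one_smul, map_smul, hz]
        rw [smul_sub, sub_eq_zero, smul_smul, smul_smul, ← pow_add, ← pow_add] at h0
        rw [smul_smul, ← pow_add, ← h0]
        congr 2
        ring
      · refine ⟨0, map_zero _, ?_⟩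
        have hex := exactAt_locC f (ih (p - 1) (by lia))
          (sndc φ (p - 1) p (by lia) x + (φ.f (p - 1)).hom c)
        rw [show p - 1 + 1 = p by lia] at hex
        obtain ⟨e, he⟩ := hex hcyc
        exact ⟨e, by rw [map_zero, zero_add, he]⟩
    obtain ⟨y, hy₁, hy₂⟩ := exists_cocone φ (p - 1 - 1) (p - 1) (by lia) (c - c') (-e)
    refine ⟨y, cocone_ext φ (q := p - 1) (by lia) ?_ ?_⟩
    · refine (fstc_d φ (p - 1) p y).trans ?_
      rw [hy₁, map_sub, hc, hc', sub_zero]
    · refine (sndc_d φ (q := p - 1 - 1) (p := p - 1) (p' := p) (by lia) (by lia) y).trans ?_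
      rw [hy₁, hy₂, map_neg, sub_neg_eq_add, map_sub, eq_sub_of_add_eq he]
      abel

end Groth.Agent.H4Cech
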